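import Groth.Agent.L21.CurveDual.Hom
import Groth.Agent.L21.CurveDual.Support

/-!
The multiplicity of `Hom(F, ω)`.
-/

set_option autoImplicit false
set_option backward.isDefEq.respectTransparency false
set_option backward.isDefEq.respectTransparency.types false
set_option linter.style.haveILetI false
universe u

open CategoryTheory CategoryTheory.Limits AlgebraicGeometry Opposite

noncomputable section

namespace Groth.L21.CurveGor

open Groth.L21.RR (h)
open Groth.L18.Ample (tw)
open Groth.L22.CurveDeg (phi)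
open Groth.L16.HomSh (homModF)
open Groth.L21.CurveDual

variable {X : Scheme.{u}} {k : Type u} [Field k] [X.Over (Spec (CommRingCat.of k))]
  [IsProper (X ↘ Spec (CommRingCat.of k))] {ω : X.Modules} {t : Coh.HH X ω 1 →ₗ[k] k}

/-- `Hom(F, ω)` grows like `F`. -/
theorem phi_hom_eq (hd : topologicalKrullDim X ≤ 1) (hω : Canon.IsRDualOver k X 1 ω t) {F : X.Modules}
    (hF : Coh.IsCoh F) (hass : ∀ x : X, IsClosed ({x} : Set X) → ¬ Curv2.IsAssPoint F x) (P : Pol k X) :
    phi k P.Q 1 (RefHull.homSh F ω) = phi k P.Q 1 F := by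
  haveI := Groth.L21.RR.isNoetherian_of_proper (X := X) k
  haveI : Coh.IsQCoh F := hF.1
  have hH : Coh.IsCoh ((homModF F).obj ω) := Groth.L16.HomSh.isCoh_homMod hF (isCoh hd hω)
  obtain ⟨n₀, hn₀⟩ := exists_h1_tw_zero P hH
  obtain ⟨j₀, hj₀⟩ := Groth.L22.EnrSev.subsingleton_H0_tw k P.e P.invQ P.invR hF hass P.φ P.affine
    fun x hx => P.generic x fun hc => hass x hc hx
  have eq : ∀ n, n₀ ≤ n → j₀ ≤ n → (Curv2.euler k X ((homModF F).obj ω) + Curv2.euler k X F) +
      (n : ℤ) * (phi k P.Q 1 ((homModF F).obj ω) + phi k P.R 1 F) = 0 := by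
    intro n hn hj
    have h1 := Groth.L21.RR.euler_eq k hd (tw ((homModF F).obj ω) P.Q n)
    rw [euler_tw hd P.invQ hH n, h0_hom_tw hω P hF n,
      Groth.L21.RR.h_eq_zero_of_subsingleton k (hn₀ n hn)] at h1
    have h2 := Groth.L21.RR.euler_eq k hd (tw F P.R n)
    rw [euler_tw hd P.invR hF n, Groth.L21.RR.h_eq_zero_of_subsingleton k (hj₀ n hj)] at h2
    simp only [Nat.cast_zero, sub_zero, zero_sub] at h1 h2
    linarith
  have e1 := eq (n₀ + j₀) (by omega) (by omega)
  have e2 := eq (n₀ + j₀ + 1) (by omega) (by omega)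
  rw [phi_R hd P hF] at e1 e2
  have hm : phi k P.Q 1 (RefHull.homSh F ω) = phi k P.Q 1 ((homModF F).obj ω) := by
    simp only [phi]
    rw [Groth.L03.Euler.euler_iso (Groth.L00.Tensor.tensorIso (Iso.refl P.Q) (asIso (Groth.L15.Ref.toHomMod F ω))),
      Groth.L03.Euler.euler_iso (asIso (Groth.L15.Ref.toHomMod F ω))]
    rfl
  rw [hm]
  push_cast at e1 e2
  linarith

end Groth.L21.CurveGor
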