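import Groth.Agent.L21.RR.Coh
import Groth.Agent.L21.RR.Sections
import Groth.Agent.L21.RR.Finite
import Groth.Agent.L15.Ref.Stalk

/-!
Precomposition on sheaves of homomorphisms; the scalar endomorphisms.
-/

set_option autoImplicit false
set_option backward.isDefEq.respectTransparency false
set_option linter.style.haveILetI false
universe u

open CategoryTheory CategoryTheory.Limits AlgebraicGeometry Opposite

noncomputable section

namespace Groth.L21.CurveGor

open Groth.L21.RR (st st_germ one oneSec)

variable {X : Scheme.{u}}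

theorem stalkMapₗ_eq_st {F G : X.Modules} (φ : F ⟶ G) (x : X) : RefHull.stalkMapₗ φ x = st φ x := by
  refine LinearMap.ext fun v => ?_
  obtain ⟨U, hxU, m, rfl⟩ := TopCat.Presheaf.exists_germ_eq (F := F.presheaf) (x := x) v
  rw [RefHull.stalkMapₗ_germ, st_germ]

variable {F F' : X.Modules}

theorem isLocSect_comp (φ : F ⟶ F') {G : X.Modules} {U : X.Opens} (g : Γ(RefHull.homSh F' G, U)) :
    RefHull.IsLocSect F G fun y : U => (g.1 y).comp (st φ y.1) := fun V i m x => by
  obtain ⟨W, hW, j, n, w⟩ := RefHull.isLocSect_of_mem g V i (φ.app V m) x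
  refine ⟨W, hW, j, n, fun y => ?_⟩
  rw [LinearMap.comp_apply, st_germ]
  exact w y

/-- Precomposition `Hom(F', G) ⟶ Hom(F, G)`. -/
def pre (φ : F ⟶ F') (G : X.Modules) : RefHull.homSh F' G ⟶ RefHull.homSh F G :=
  ⟨PresheafOfModules.homMk
    { app := fun U => AddCommGrpCat.ofHom
        { toFun := fun g => (⟨fun y => ((g : Γ(RefHull.homSh F' G, U.unop)).1 y).comp (st φ y.1),
            isLocSect_comp φ g⟩ : Γ(RefHull.homSh F G, U.unop))
          map_zero' := Subtype.ext (funext fun _ => LinearMap.zero_comp _)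
          map_add' := fun _ _ => Subtype.ext (funext fun _ => LinearMap.add_comp _ _ _) }
      naturality := fun {U V} i => by ext g; rfl }
    (fun U r s => Subtype.ext <| funext fun y => LinearMap.smul_comp _ _ _)⟩

theorem evalStalk_pre (φ : F ⟶ F') (G : X.Modules) (x : X) (θ : (RefHull.homSh F' G).presheaf.stalk x) :
    RefHull.evalStalk F G x (st (pre φ G) x θ) = (RefHull.evalStalk F' G x θ).comp (st φ x) := by
  obtain ⟨U, hxU, g, rfl⟩ := TopCat.Presheaf.exists_germ_eq (RefHull.homSh F' G).presheaf θ
  rw [st_germ, RefHull.evalStalk_germ, RefHull.evalStalk_germ]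
  rfl

/-- Scalars as endomorphisms. -/
def endUnit (G : X.Modules) : Coh.structureModule X ⟶ RefHull.homSh G G :=
  Groth.L16.homOfSection _ (RefHull.ofHom (𝟙 G) ⊤)

theorem evalStalk_endUnit (G : X.Modules) (x : X) (a : X.presheaf.stalk x) :
    RefHull.evalStalk G G x (st (endUnit G) x (a • one X x)) = a • LinearMap.id := by
  rw [map_smul, map_smul]
  refine congrArg (a • ·) ?_
  rw [one, st_germ, endUnit, Groth.L21.RR.app_homOfSection_one, RefHull.evalStalk_germ, RefHull.ofHom_apply,
    stalkMapₗ_eq_st]
  refine LinearMap.ext fun v => ?_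
  simp [st]

end Groth.L21.CurveGor
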