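import Groth.Agent.L21.CurveGor.Algebra
import Groth.Agent.L21.CurveGor.HomPre
import Groth.Agent.L21.CurveGor.HomPhi
import Groth.Agent.L21.CurveDual.Restrict
import Groth.Agent.L21.PointIdeal
import Groth.Agent.L21.RR.Mul
import Groth.Agent.L21.Disc.SuppLength
import Groth.Agent.L21.Disc.Hurwitz
import Groth.Agent.L21.RedCurve.Basic
import Groth.Agent.L21.Curve.SmoothDescent

/-!
On a reduced proper curve with Gorenstein local rings the dualizing module is invertible.
-/

set_option autoImplicit false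
set_option backward.isDefEq.respectTransparency false
set_option backward.isDefEq.respectTransparency.types false
set_option linter.style.haveILetI false
universe u

open CategoryTheory CategoryTheory.Limits AlgebraicGeometry Opposite TopologicalSpace
open IsLocalRing (maximalIdeal)
attribute [local instance] Curv2.resAlgebra

noncomputable section

namespace Groth.L21.CurveGor

open Groth.L21.RR (st st_germ one h SuppClosed bijective_smul_one)
open Groth.L22.CurveDeg (phi)
open Groth.L21.CurveDual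
open Groth.L15.Ref (evalStalk_bijective isCoh_homSh strE)
open Groth.L18.Frame (rs)
open Groth.L21.PointIdeal (mI incl equivSelf equivNe)

variable {X : Scheme.{u}}

theorem not_assPoint_structure [IsLocallyNoetherian X] {x : X} [_root_.IsReduced (X.presheaf.stalk x)]
    (hnf : ¬ IsField (X.presheaf.stalk x)) : ¬ Curv2.IsAssPoint (Coh.structureModule X) x := by
  intro h
  have h1 : IsAssociatedPrime (maximalIdeal (X.presheaf.stalk x)) (X.presheaf.stalk x) :=
    (LinearEquiv.isAssociatedPrime_iff (strE x)).2 h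
  obtain ⟨φ, hφ⟩ := ((isAssociatedPrime_iff_exists_injective_linearMap _ _).1 h1).2
  let v := φ (Submodule.Quotient.mk 1)
  have hkill : ∀ r ∈ maximalIdeal (X.presheaf.stalk x), r * v = 0 := fun r hr => by
    rw [← smul_eq_mul, ← map_smul, ← Submodule.Quotient.mk_smul, smul_eq_mul, mul_one,
      (Submodule.Quotient.mk_eq_zero _).2 hr, map_zero]
  have hv : v ≠ 0 := fun h0 => (IsLocalRing.maximalIdeal.isMaximal _).ne_top
    ((Ideal.eq_top_iff_one _).2 ((Submodule.Quotient.mk_eq_zero _).1 (hφ (h0.trans (map_zero φ).symm))))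
  by_cases hu : IsUnit v
  · exact hnf (IsLocalRing.isField_iff_maximalIdeal_eq.2 (eq_bot_iff.2 fun r hr =>
      (Submodule.mem_bot _).2 ((hu.mul_left_eq_zero).1 (hkill r hr))))
  · exact hv (_root_.IsReduced.eq_zero v ⟨2, by rw [pow_two]; exact hkill v hu⟩)

theorem isInvertible_of_stalk_equiv [IsLocallyNoetherian X] {F : X.Modules} (hF : Coh.IsCoh F)
    (hst : ∀ y : X, Nonempty (F.presheaf.stalk y ≃ₗ[X.presheaf.stalk y] X.presheaf.stalk y)) :
    PicF.IsInvertible F := by
  refine Groth.L21.Bundle.isInvertible_of_rank fun y => ?_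
  obtain ⟨θy⟩ := hst y
  haveI : Module.Flat (X.presheaf.stalk y) (F.presheaf.stalk y) := Module.Flat.of_linearEquiv θy
  obtain ⟨U, n, hyU, ⟨e⟩⟩ := Groth.L20.FibreFree.exists_free_nhd F (Groth.L15.Ref.isFP_of_isCoh hF) y inferInstance
  have hU : U.ι ''ᵁ ⊤ = U := (Scheme.Hom.image_top_eq_opensRange U.ι).trans U.opensRange_ι
  obtain ⟨s, hs⟩ := Groth.L17.FinLocBases.exists_isBasis F e
  have hb := Groth.L17.PullBasis.bijective_stalk F s hs y (hU.symm ▸ hyU)
  let θn := LinearEquiv.ofBijective (Fintype.linearCombination (X.presheaf.stalk y)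
    fun j => Groth.L00.StalkTensor.germ (Groth.L00.Tensor.pre F) y (hU.symm ▸ hyU) (s j)) hb
  haveI : Nontrivial (X.presheaf.stalk y) := inferInstance
  have hn : n = 1 := by simpa using (θn.trans θy).finrank_eq
  exact ⟨U, hyU, ⟨hn ▸ e⟩⟩

variable {k : Type u} [Field k] [X.Over (Spec (CommRingCat.of k))] [IsProper (X ↘ Spec (CommRingCat.of k))]
  {ω : X.Modules} {t : Coh.HH X ω 1 →ₗ[k] k}

/-- The dualizing module has no associated closed point which is not isolated. -/
theorem not_assPoint_dualizing (hd : topologicalKrullDim X ≤ 1) (hω : Canon.IsRDualOver k X 1 ω t)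
    {x : X} (hx : IsClosed ({x} : Set X)) (hgen : ¬ IsOpen ({x} : Set X)) : ¬ Curv2.IsAssPoint ω x := by
  classical
  haveI := Groth.L21.RR.isNoetherian_of_proper (X := X) k
  haveI : Coh.IsQCoh ω := hω.1
  intro hass
  obtain ⟨V, hV, hxV, -⟩ := exists_isAffineOpen_mem_and_subset (x := x) (U := ⊤) trivial
  haveI : IsNoetherianRing Γ(X, V) := IsLocallyNoetherian.component_noetherian ⟨V, hV⟩
  let p := (hV.primeIdealOf ⟨x, hxV⟩).asIdeal
  obtain ⟨φ, hφ⟩ :=
    ((isAssociatedPrime_iff_exists_injective_linearMap _ _).1 ((Groth.L19.Ass.mem_iff_of_affine ω hV hxV).1 hass)).2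
  let s := φ (Submodule.Quotient.mk 1)
  have hkill : ∀ r ∈ p, r • s = 0 := fun r hr => by
    rw [← map_smul, ← Submodule.Quotient.mk_smul, smul_eq_mul, mul_one, (Submodule.Quotient.mk_eq_zero _).2 hr,
      map_zero]
  let U : X.Opens := ⟨{x}ᶜ, hx.isOpen_compl⟩
  have hU : ∀ y : X, ¬ IsClosed ({y} : Set X) → y ∈ U := fun y hy (he : y = x) => hy (he ▸ hx)
  have hs : s ≠ 0 := fun h0 => (hV.primeIdealOf ⟨x, hxV⟩).isPrime.ne_top
    ((Ideal.eq_top_iff_one _).2 ((Submodule.Quotient.mk_eq_zero _).1 (hφ (h0.trans (map_zero φ).symm))))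
  refine hs (injective_restrict hω U hU V ?_)
  rw [map_zero]
  refine TopCat.Presheaf.section_ext ⟨ω.presheaf, ω.isSheaf⟩ (V ⊓ U) _ _ fun y hy => ?_
  change ω.presheaf.germ (V ⊓ U) y hy _ = ω.presheaf.germ (V ⊓ U) y hy 0
  rw [map_zero, TopCat.Presheaf.germ_res_apply]
  obtain ⟨r, hr, hr'⟩ : ∃ r ∈ p, IsUnit (X.presheaf.germ V y hy.1 r) := by
    by_contra h
    push Not at h
    let q := (hV.primeIdealOf ⟨y, hy.1⟩).asIdeal
    have hpq : p ≤ q := fun r hr => by
      letI := X.presheaf.algebra_section_stalk (⟨y, hy.1⟩ : V)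
      haveI := hV.isLocalization_stalk ⟨y, hy.1⟩
      by_contra hrq
      exact h r hr (IsLocalization.map_units (X.presheaf.stalk y)
        (⟨r, hrq⟩ : (hV.primeIdealOf ⟨y, hy.1⟩).asIdeal.primeCompl))
    have hsp : hV.primeIdealOf ⟨x, hxV⟩ ⤳ hV.primeIdealOf ⟨y, hy.1⟩ :=
      (PrimeSpectrum.le_iff_specializes _ _).1 hpq
    have hxy : x ⤳ y := by
      have := hsp.map hV.fromSpec.continuous
      rwa [hV.fromSpec_primeIdealOf, hV.fromSpec_primeIdealOf] at this
    exact hy.2 (hxy.mem_closed hx rfl)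
  refine hr'.smul_eq_zero.1 ?_
  rw [← Groth.L20.ModStalk.germ_smul, hkill r hr, map_zero]

variable [AlgebraicGeometry.IsReduced X]

/-- Standing hypotheses: dimension at most one and no isolated closed point. -/
structure Setup (k : Type u) [Field k] (X : Scheme.{u}) [X.Over (Spec (CommRingCat.of k))] (ω : X.Modules)
    (t : Coh.HH X ω 1 →ₗ[k] k) : Prop where
  hd : topologicalKrullDim X ≤ 1
  hω : Canon.IsRDualOver k X 1 ω t
  hnf : ∀ x : X, IsClosed ({x} : Set X) → ¬ IsField (X.presheaf.stalk x)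
  hopen : ∀ x : X, IsClosed ({x} : Set X) → ¬ IsOpen ({x} : Set X)

variable (S : Setup k X ω t)

include S in
theorem Setup.assO (x : X) (hx : IsClosed ({x} : Set X)) : ¬ Curv2.IsAssPoint (Coh.structureModule X) x :=
  haveI := Groth.L21.RR.isNoetherian_of_proper (X := X) k
  not_assPoint_structure (S.hnf x hx)

include S in
theorem Setup.assω (x : X) (hx : IsClosed ({x} : Set X)) : ¬ Curv2.IsAssPoint ω x :=
  not_assPoint_dualizing S.hd S.hω hx (S.hopen x hx)

include S in
theorem Setup.isIso_endUnit : IsIso (endUnit ω) := by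
  haveI := Groth.L21.RR.isNoetherian_of_proper (X := X) k
  have hωc := isCoh S.hd S.hω
  have hO := Groth.L16.CohClosedPush.isCoh_structure (X := X)
  haveI : Coh.IsQCoh (Coh.structureModule X) := hO.1
  have hE := isCoh_homSh ω ω hωc hωc
  haveI : Mono (endUnit ω) := Groth.L22.EnrSev.mono_of_injective_ass (endUnit ω) fun x hx => by
    have hxn : ¬ IsClosed ({x} : Set X) := fun hc => S.assO x hc hx
    have hsupp := mem_support_of_not_isClosed S.hd S.hω hxn
    rw [injective_iff_map_eq_zero]
    intro w hw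
    obtain ⟨a, rfl⟩ := (bijective_smul_one x).2 w
    by_contra hne
    have ha : a ≠ 0 := fun h0 => hne (by simp only [h0, zero_smul])
    obtain ⟨b, hb⟩ := (Groth.L21.RedCurve.stalk_isField S.hd hxn).mul_inv_cancel ha
    have h1 := evalStalk_endUnit ω x a
    rw [hw, map_zero] at h1
    refine hsupp (subsingleton_of_forall_eq 0 fun v => ?_)
    have h2 : a • v = 0 := (LinearMap.congr_fun h1 v).symm
    calc v = (a * b) • v := by rw [hb, one_smul]
      _ = 0 := by rw [mul_comm, mul_smul, h2, smul_zero]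
  obtain ⟨P, -⟩ := nonempty_pol k S.hd ∅ Set.finite_empty
  have hphi : phi k P.Q 1 (RefHull.homSh ω ω) ≤ phi k P.Q 1 (Coh.structureModule X) := by
    rw [phi_hom_eq S.hd S.hω hωc S.assω P, (exists_defect S.hd S.hω P).1, phi_R S.hd P hO, neg_neg]
  obtain ⟨hs, he⟩ := (phi_coker k S.hd P.ample (endUnit ω) hO hE).2 hphi
  rw [euler_hom_eq_neg S.hd S.hω hωc S.assω, euler_eq_neg S.hd S.hω S.assO, neg_neg] at he
  have h0 : h k 0 (cokernel (endUnit ω)) = 0 := by omega
  haveI : Module.Finite k (Coh.HH X (cokernel (endUnit ω)) 0) :=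
    Groth.L21.RR.finite_HH' (X := X) k (Groth.L16.CohKernel.isCoh_kernel_cokernel hO hE _).2 0
  haveI : Subsingleton (Coh.HH X (cokernel (endUnit ω)) 0) :=
    Module.finrank_zero_iff.1 h0
  haveI : Epi (endUnit ω) := Preadditive.epi_of_isZero_cokernel _ (isZero_of_suppClosed_of_sections hs)
  exact isIso_of_mono_of_epi _

include S in
/-- The endomorphisms of the stalks are the scalars, acting faithfully. -/
theorem Setup.endo (x : X) :
    (∀ c : X.presheaf.stalk x, (∀ m : ω.presheaf.stalk x, c • m = 0) → c = 0) ∧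
      ∀ ψ : ω.presheaf.stalk x →ₗ[X.presheaf.stalk x] ω.presheaf.stalk x,
        ∃ c : X.presheaf.stalk x, ∀ m : ω.presheaf.stalk x, ψ m = c • m := by
  haveI := Groth.L21.RR.isNoetherian_of_proper (X := X) k
  haveI : Coh.IsQCoh ω := S.hω.1
  haveI := S.isIso_endUnit
  have hev := evalStalk_bijective ω ω (isCoh S.hd S.hω) x
  have hst := (Groth.L21.Mod.isIso_iff_stalk_bijective (endUnit ω)).1 inferInstance x
  refine ⟨fun c hc => ?_, fun ψ => ?_⟩
  · have h1 : RefHull.evalStalk ω ω x (st (endUnit ω) x (c • one X x)) =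
        RefHull.evalStalk ω ω x (st (endUnit ω) x 0) := by
      rw [evalStalk_endUnit, map_zero, map_zero]
      exact LinearMap.ext hc
    exact (bijective_smul_one x).1 ((hst.1 (hev.1 h1)).trans (zero_smul _ (one X x)).symm)
  · obtain ⟨θ, rfl⟩ := hev.2 ψ
    obtain ⟨w, hw⟩ := hst.2 θ
    obtain ⟨c, rfl⟩ := (bijective_smul_one x).2 w
    refine ⟨c, fun m => ?_⟩
    rw [← hw]
    exact LinearMap.congr_fun (evalStalk_endUnit ω x c) m

include S in
/-- Homomorphisms `m → ω_x` are generated by one of them modulo restrictions of `R → ω_x`. -/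
theorem Setup.exists_gen {x : X} (hx : IsClosed ({x} : Set X)) :
    ∃ φ₀ : ↥(maximalIdeal (X.presheaf.stalk x)) →ₗ[X.presheaf.stalk x] ω.presheaf.stalk x,
      ∀ φ : ↥(maximalIdeal (X.presheaf.stalk x)) →ₗ[X.presheaf.stalk x] ω.presheaf.stalk x,
        ∃ (a : X.presheaf.stalk x) (m₁ : ω.presheaf.stalk x),
          ∀ r, φ r = a • φ₀ r + (r : X.presheaf.stalk x) • m₁ := by
  classical
  haveI := Groth.L21.RR.isNoetherian_of_proper (X := X) k
  haveI : Coh.IsQCoh ω := S.hω.1
  let I := Scheme.IdealSheafData.vanishingIdeal (⟨{x}, hx⟩ : Closeds X)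
  let ι : mI hx ⟶ Coh.structureModule X := ClSub.idealModι I
  haveI : Mono ι := inferInstanceAs (Mono (kernel.ι _))
  have hO := Groth.L16.CohClosedPush.isCoh_structure (X := X)
  have hI : Coh.IsCoh (mI hx) := Groth.L21.RR.isCoh_idealMod I
  have hIass : ∀ y : X, IsClosed ({y} : Set X) → ¬ Curv2.IsAssPoint (mI hx) y := fun y hy hy' => S.assO y hy
    (IsAssociatedPrime.map_of_injective (f := st ι y) hy'
      ((Groth.L21.Mod.mono_iff_stalk_injective ι).1 inferInstance y))
  have hωc := isCoh S.hd S.hω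
  let A := RefHull.homSh (Coh.structureModule X) ω
  let B := RefHull.homSh (mI hx) ω
  let res : A ⟶ B := pre ι ω
  have hA : Coh.IsCoh A := isCoh_homSh _ _ hO hωc
  have hB : Coh.IsCoh B := isCoh_homSh _ _ hI hωc
  have evA := fun y => evalStalk_bijective (Coh.structureModule X) ω hO y
  have evB := fun y => evalStalk_bijective (mI hx) ω hI y
  have hsurj : ∀ y, y ≠ x → Function.Surjective (st ι y) := fun y hy w => by
    obtain ⟨r, rfl⟩ := (bijective_smul_one y).2 w
    obtain ⟨u, rfl⟩ := Groth.L21.PointIdeal.surjective_incl hx hy r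
    exact ⟨u, (Groth.L21.PointIdeal.incl_smul_one hx y u).symm⟩
  have hinj : ∀ y, Function.Injective (st ι y) := fun y =>
    (Groth.L21.Mod.mono_iff_stalk_injective ι).1 inferInstance y
  haveI : Mono res := by
    rw [Groth.L21.Mod.mono_iff_stalk_injective]
    intro y
    show Function.Injective (st res y)
    rw [injective_iff_map_eq_zero]
    intro θ hθ
    refine (evA y).1 ?_
    rw [map_zero]
    have h1 := evalStalk_pre ι ω y θ
    rw [hθ, map_zero] at h1
    refine LinearMap.ext fun w => ?_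
    by_cases hy : y = x
    · subst hy
      obtain ⟨a, rfl⟩ := (bijective_smul_one y).2 w
      rw [map_smul, LinearMap.zero_apply]
      convert smul_zero a
      by_contra hne
      refine S.assω y hx ((isAssociatedPrime_iff_exists_injective_linearMap _ _).2
        ⟨(IsLocalRing.maximalIdeal.isMaximal _).isPrime, ?_⟩)
      let v := RefHull.evalStalk (Coh.structureModule X) ω y θ (one X y)
      refine ⟨Submodule.liftQ _ (LinearMap.toSpanSingleton _ _ v) fun r hr => ?_, ?_⟩
      · have hr' : r ∈ LinearMap.range (incl hx y) := (Groth.L21.PointIdeal.range_incl_self hx).symm ▸ hr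
        obtain ⟨u, rfl⟩ := hr'
        change incl hx y u • v = 0
        rw [← map_smul, Groth.L21.PointIdeal.incl_smul_one]
        exact (LinearMap.congr_fun h1 u).symm
      · rw [injective_iff_map_eq_zero]
        intro c hc
        obtain ⟨c, rfl⟩ := Submodule.Quotient.mk_surjective _ c
        rw [Submodule.Quotient.mk_eq_zero]
        intro hcu
        exact hne (hcu.smul_eq_zero.1 hc)
    · obtain ⟨u, rfl⟩ := hsurj y hy w
      exact (LinearMap.congr_fun h1 u).symm
  let C := cokernel res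
  have hC : Coh.IsCoh C := (Groth.L16.CohKernel.isCoh_kernel_cokernel hA hB res).2
  let Q := cokernel ι
  have hQ : Coh.IsCoh Q := (Groth.L16.CohKernel.isCoh_kernel_cokernel hI hO ι).2
  have hzero : ∀ {M N : X.Modules} (g : M ⟶ N) (y : X), Function.Surjective (st g y) →
      Subsingleton ((cokernel g).presheaf.stalk y) := fun {M N} g y hg => subsingleton_of_forall_eq 0 fun v => by
    obtain ⟨w, rfl⟩ := (Groth.L21.Mod.epi_iff_stalk_surjective (cokernel.π g)).1 inferInstance y v
    obtain ⟨u, rfl⟩ := hg w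
    show st (cokernel.π g) y (st g y u) = 0
    rw [← Groth.L21.RR.st_comp, cokernel.condition, st, Functor.map_zero]
    rfl
  have hCy : ∀ y, y ≠ x → Subsingleton (C.presheaf.stalk y) := fun y hy => hzero res y fun η => by
    let e := LinearEquiv.ofBijective (st ι y) ⟨hinj y, hsurj y hy⟩
    obtain ⟨θ, hθ⟩ := (evA y).2 ((RefHull.evalStalk (mI hx) ω y η).comp e.symm.toLinearMap)
    refine ⟨θ, (evB y).1 ?_⟩
    rw [evalStalk_pre, hθ]
    refine LinearMap.ext fun u => ?_
    change RefHull.evalStalk (mI hx) ω y η (e.symm (e u)) = _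
    rw [e.symm_apply_apply]
  have hQy : ∀ y, y ≠ x → Subsingleton (Q.presheaf.stalk y) := fun y hy => hzero ι y (hsurj y hy)
  have hsupp : ∀ {M : X.Modules}, (∀ y, y ≠ x → Subsingleton (M.presheaf.stalk y)) → SuppClosed M :=
    fun {M} hM y hy => hM y fun he => hy (he ▸ hx)
  have sA : (ShortComplex.mk res (cokernel.π res) (cokernel.condition _)).ShortExact :=
    { exact := ShortComplex.exact_cokernel _ }
  have sI : (ShortComplex.mk ι (cokernel.π ι) (cokernel.condition _)).ShortExact :=
    { exact := ShortComplex.exact_cokernel _ }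
  have e1 := Groth.L21.RR.euler_add k S.hd sA hA hB hC
  have e2 := Groth.L21.RR.euler_add k S.hd sI hI hO hQ
  rw [Groth.L21.RR.euler_eq_h0_of_suppClosed k (hsupp hCy), euler_hom_eq_neg S.hd S.hω hI hIass,
    euler_hom_eq_neg S.hd S.hω hO S.assO] at e1
  rw [Groth.L21.RR.euler_eq_h0_of_suppClosed k (hsupp hQy)] at e2
  have hCQ : h k 0 C = h k 0 Q := by
    dsimp only at e1 e2
    have : (h k 0 C : ℤ) = h k 0 Q := by linarith
    exact_mod_cast this
  rw [Groth.L21.Disc.h0_eq_sum_length k hC {x} (fun y hy => Finset.mem_singleton.1 hy ▸ hx)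
      (fun y hy => hCy y fun h => hy (Finset.mem_singleton.2 h)),
    Groth.L21.Disc.h0_eq_sum_length k hQ {x} (fun y hy => Finset.mem_singleton.1 hy ▸ hx)
      (fun y hy => hQy y fun h => hy (Finset.mem_singleton.2 h)), Finset.sum_singleton, Finset.sum_singleton] at hCQ
  have hQlen : Module.length (X.presheaf.stalk x) (Q.presheaf.stalk x) = 1 := by
    let g := (st (cokernel.π ι) x).comp
      (LinearMap.toSpanSingleton (X.presheaf.stalk x) ((Coh.structureModule X).presheaf.stalk x) (one X x))
    have hg : Function.Surjective g :=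
      ((Groth.L21.Mod.epi_iff_stalk_surjective (cokernel.π ι)).1 inferInstance x).comp (bijective_smul_one x).2
    have hker : LinearMap.ker g = maximalIdeal (X.presheaf.stalk x) := by
      ext r
      rw [LinearMap.mem_ker]
      show st (cokernel.π ι) x (r • one X x) = 0 ↔ _
      rw [← Groth.L21.PointIdeal.range_incl_self hx]
      refine ⟨fun h => ?_, ?_⟩
      · obtain ⟨u, hu⟩ := Groth.L21.RR.exists_of_st_cokernel ι x _ h
        exact ⟨u, (bijective_smul_one x).1 ((Groth.L21.PointIdeal.incl_smul_one hx x u).trans hu)⟩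
      · rintro ⟨u, rfl⟩
        rw [Groth.L21.PointIdeal.incl_smul_one, ← Groth.L21.RR.st_comp, cokernel.condition, st, Functor.map_zero]
        rfl
    rw [← (LinearMap.quotKerEquivOfSurjective g hg).length_eq, hker, Module.length_eq_one_iff]
    exact isSimpleModule_iff_isCoatom.2 (Ideal.isMaximal_def.1 (IsLocalRing.maximalIdeal.isMaximal _))
  have hdpos : Module.finrank k (X.residueField x) ≠ 0 := by
    haveI := Groth.L21.Disc.finite_residueField_of_isClosed k hx
    exact Module.finrank_pos.ne'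
  rw [hQlen] at hCQ
  have hClen : Module.length (X.presheaf.stalk x) (C.presheaf.stalk x) = 1 := by
    have h1 := mul_right_cancel₀ hdpos hCQ
    cases hl : Module.length (X.presheaf.stalk x) (C.presheaf.stalk x) with
    | top => rw [hl] at h1; simp at h1
    | coe n => rw [hl] at h1; simp at h1; simp [h1]
  haveI hsimple := Module.length_eq_one_iff.1 hClen
  haveI := hsimple.nontrivial
  obtain ⟨c, hc⟩ := exists_ne (0 : C.presheaf.stalk x)
  obtain ⟨η₀, rfl⟩ : ∃ η₀ : B.presheaf.stalk x, st (cokernel.π res) x η₀ = c :=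
    (Groth.L21.Mod.epi_iff_stalk_surjective (cokernel.π res)).1 inferInstance x c
  let eS := equivSelf hx
  refine ⟨(RefHull.evalStalk (mI hx) ω x η₀).comp eS.symm.toLinearMap, fun φ => ?_⟩
  obtain ⟨η, hη⟩ := (evB x).2 (φ.comp eS.toLinearMap)
  obtain ⟨a, ha⟩ := IsSimpleModule.toSpanSingleton_surjective (X.presheaf.stalk x) hc (st (cokernel.π res) x η)
  obtain ⟨θ, hθ⟩ := Groth.L21.RR.exists_of_st_cokernel res x (η - a • η₀) (by
    rw [map_sub, map_smul, ← ha]
    exact sub_self _)
  refine ⟨a, RefHull.evalStalk (Coh.structureModule X) ω x θ (one X x), fun r => ?_⟩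
  have h1 := congrArg (RefHull.evalStalk (mI hx) ω x) hθ
  rw [evalStalk_pre, map_sub, map_smul, hη] at h1
  have h2 : RefHull.evalStalk (Coh.structureModule X) ω x θ (st ι x (eS.symm r)) =
      φ (eS (eS.symm r)) - a • RefHull.evalStalk (mI hx) ω x η₀ (eS.symm r) := LinearMap.congr_fun h1 (eS.symm r)
  rw [eS.apply_symm_apply] at h2
  have h3 : st ι x (eS.symm r) = (r : X.presheaf.stalk x) • one X x := by
    rw [← Groth.L21.PointIdeal.incl_smul_one]
    exact congrArg (· • one X x) (congrArg Subtype.val (eS.apply_symm_apply r))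
  rw [h3, map_smul] at h2
  rw [h2]
  exact (add_sub_cancel _ _).symm

include S in
/-- The dualizing module of a Gorenstein curve is invertible. -/
theorem Setup.isInvertible (hG : ∀ x : X, IsClosed ({x} : Set X) → LocCoh.IsGorensteinLocalRing (X.presheaf.stalk x)) :
    PicF.IsInvertible ω := by
  haveI := Groth.L21.RR.isNoetherian_of_proper (X := X) k
  haveI : Coh.IsQCoh ω := S.hω.1
  have hωc := isCoh S.hd S.hω
  refine isInvertible_of_stalk_equiv hωc fun x => ?_
  haveI : Module.Finite (X.presheaf.stalk x) (ω.presheaf.stalk x) := Groth.L15.Ref.finite_stalk hωc x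
  obtain ⟨hfaith, hend⟩ := S.endo x
  suffices hb : ∃ m₀ : ω.presheaf.stalk x, Function.Bijective fun r : X.presheaf.stalk x => r • m₀ by
    obtain ⟨m₀, hm₀⟩ := hb
    exact ⟨(LinearEquiv.ofBijective (LinearMap.toSpanSingleton _ _ m₀) hm₀).symm⟩
  by_cases hx : IsClosed ({x} : Set X)
  · haveI := hG x hx
    haveI : IsNoetherianRing (X.presheaf.stalk x) := inferInstance
    haveI : Ring.KrullDimLE 1 (X.presheaf.stalk x) := by
      rw [Ring.krullDimLE_iff]
      exact (Groth.L21.SmoothDescent.ringKrullDim_stalk_le x).trans S.hd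
    obtain ⟨φ₀, hgen⟩ := S.exists_gen hx
    let R := X.presheaf.stalk x
    have hsub : ¬ ((maximalIdeal R : Set R) ⊆
        ⋃ p ∈ associatedPrimes R R ∪ associatedPrimes R (ω.presheaf.stalk x), (p : Set R)) := by
      intro hsub
      have hfin := (associatedPrimes.finite R R).union (associatedPrimes.finite R (ω.presheaf.stalk x))
      obtain ⟨p, hp, hle⟩ := (Ideal.subset_union_prime_finite hfin ⊥ ⊥ fun p hp _ _ => by
        rcases hp with hp | hp <;> exact hp.isPrime).1 hsub
      have hpm : p = maximalIdeal R := (IsLocalRing.le_maximalIdeal (by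
        rcases hp with hp | hp <;> exact hp.isPrime.ne_top)).antisymm hle
      subst hpm
      rcases hp with hp | hp
      · exact S.assO x hx ((LinearEquiv.isAssociatedPrime_iff (strE x)).1 hp)
      · exact S.assω x hx hp
    obtain ⟨f, hf, hfn⟩ := Set.not_subset.1 hsub
    have hfR : IsSMulRegular R f := by
      by_contra hr
      have h1 : f ∈ {r : R | IsSMulRegular R r}ᶜ := hr
      rw [← biUnion_associatedPrimes_eq_compl_regular R R] at h1
      obtain ⟨p, hp, hfp⟩ := Set.mem_iUnion₂.1 h1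
      exact hfn (Set.mem_iUnion₂.2 ⟨p, Or.inl hp, hfp⟩)
    have hfM : IsSMulRegular (ω.presheaf.stalk x) f := by
      by_contra hr
      have h1 : f ∈ {r : R | IsSMulRegular (ω.presheaf.stalk x) r}ᶜ := hr
      rw [← biUnion_associatedPrimes_eq_compl_regular R (ω.presheaf.stalk x)] at h1
      obtain ⟨p, hp, hfp⟩ := Set.mem_iUnion₂.1 h1
      exact hfn (Set.mem_iUnion₂.2 ⟨p, Or.inr hp, hfp⟩)
    exact exists_bijective hf (mem_nonZeroDivisors_iff_right.2 fun y hy => hfR (show f • y = f • 0 by rw [smul_zero, smul_eq_mul, mul_comm, hy])) hfM hfaith hend φ₀ hgen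
  · letI := (Groth.L21.RedCurve.stalk_isField S.hd hx).toField
    obtain ⟨m₀, hm₀⟩ : ∃ m₀ : ω.presheaf.stalk x, m₀ ≠ 0 := by
      by_contra h
      push Not at h
      exact one_ne_zero (hfaith (1 : X.presheaf.stalk x) fun m => by rw [h m, smul_zero])
    obtain ⟨g, hg⟩ := (LinearMap.toSpanSingleton (X.presheaf.stalk x) (ω.presheaf.stalk x) m₀).exists_leftInverse_of_injective
      (LinearMap.ker_eq_bot'.2 fun r hr => (smul_eq_zero.1 hr).resolve_right hm₀)
    have hg1 : g m₀ = 1 := by simpa using LinearMap.congr_fun hg (1 : X.presheaf.stalk x)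
    obtain ⟨c, hc⟩ := hend (g.smulRight m₀)
    have h1 : m₀ = c • m₀ := by
      rw [← hc m₀, LinearMap.smulRight_apply, hg1, one_smul]
    refine ⟨m₀, smul_left_injective _ hm₀, fun m => ⟨g m, ?_⟩⟩
    show g m • m₀ = m
    have hc1 : c = 1 := smul_left_injective _ hm₀ (h1.symm.trans (one_smul _ m₀).symm)
    rw [← LinearMap.smulRight_apply, hc m, hc1, one_smul]

end Groth.L21.CurveGor
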