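import Mathlib.RingTheory.Length
import Mathlib.RingTheory.OrderOfVanishing.Basic
import Mathlib.RingTheory.Nakayama
import Groth.Agent.L21.GorensteinSocle

/-!
Modules with trivial endomorphisms and cyclic socle over one-dimensional Gorenstein rings are free.
-/

set_option autoImplicit false
set_option backward.isDefEq.respectTransparency false
set_option linter.style.haveILetI false
universe u

open IsLocalRing

namespace Groth.L21.CurveGor

section Socle

variable {R : Type u} [CommRing R] [IsLocalRing R] {N : Type u} [AddCommGroup N] [Module R N]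

/-- Every non-zero module of finite length has an element killed by the maximal ideal. -/
theorem exists_socle_mem [IsNoetherian R N] [IsArtinian R N] (S : Submodule R N) (hS : S ≠ ⊥) :
    ∃ v ∈ S, v ≠ 0 ∧ ∀ r ∈ maximalIdeal R, r • v = 0 := by
  obtain ⟨A, hA, hmin⟩ := IsArtinian.set_has_minimal {A : Submodule R N | A ≠ ⊥ ∧ A ≤ S} ⟨S, hS, le_rfl⟩
  obtain ⟨v, hv, hv0⟩ := Submodule.exists_mem_ne_zero_of_ne_bot hA.1
  refine ⟨v, hA.2 hv, hv0, fun r hr => by_contra fun hrv => ?_⟩
  have hle : Submodule.span R {r • v} ≤ A := by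
    rw [Submodule.span_le, Set.singleton_subset_iff]
    exact A.smul_mem r hv
  have hne : Submodule.span R {r • v} ≠ ⊥ := by
    rwa [ne_eq, Submodule.span_singleton_eq_bot]
  rcases hle.lt_or_eq with h | h
  · exact hmin _ ⟨hne, hle.trans hA.2⟩ h
  · obtain ⟨c, hc⟩ := Submodule.mem_span_singleton.1 (h ▸ hv)
    have h1 : (1 - c * r) • v = 0 := by rw [sub_smul, one_smul, mul_smul, hc, sub_self]
    have hu : IsUnit (1 - c * r) := isUnit_one_sub_self_of_mem_nonunits _ (Ideal.mul_mem_left _ c hr)
    exact hv0 (hu.smul_eq_zero.1 h1)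

/-- With cyclic socle, a module is no longer than the ring acting on it. -/
theorem length_torsionBySet_le {f : R} [IsNoetherian R (R ⧸ Ideal.span {f})] [IsArtinian R (R ⧸ Ideal.span {f})]
    (u₀ : N) (hu₀ : ∀ r ∈ maximalIdeal R, r • u₀ = 0)
    (hsoc : ∀ v : N, (∀ r ∈ maximalIdeal R, r • v = 0) → ∃ a : R, v = a • u₀)
    (I : Ideal R) (hI : f ∈ I) :
    Module.length R (Submodule.torsionBySet R N (I : Set R)) ≤ Module.length R (R ⧸ I) := by
  let q := (Ideal.span {f} : Ideal R).mkQ
  haveI hwf : WellFoundedGT (Submodule R (R ⧸ Ideal.span {f})) := inferInstance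
  suffices H : ∀ J : Submodule R (R ⧸ Ideal.span {f}), ∀ I : Ideal R, I = J.comap q →
      Module.length R (Submodule.torsionBySet R N (I : Set R)) ≤ Module.length R (R ⧸ I) by
    refine H (Submodule.map q I) I ?_
    rw [Submodule.comap_map_eq, Submodule.ker_mkQ, sup_eq_left.2]
    rwa [Ideal.span_singleton_le_iff_mem]
  intro J
  induction J using WellFoundedGT.induction with
  | _ J ih =>
    intro I hIJ
    have hfI : Ideal.span {f} ≤ I := by
      rw [hIJ]
      exact (Submodule.ker_mkQ (Ideal.span {f})).ge.trans (LinearMap.ker_le_comap _)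
    by_cases htop : I = ⊤
    · haveI : Subsingleton (Submodule.torsionBySet R N (I : Set R)) := ⟨fun a b => by
        have h1 : ∀ c : Submodule.torsionBySet R N (I : Set R), c = 0 := fun c => Subtype.ext <| by
          have := c.2
          rw [Submodule.mem_torsionBySet_iff] at this
          simpa using this ⟨1, by simp [htop]⟩
        rw [h1 a, h1 b]⟩
      rw [Module.length_eq_zero]
      exact bot_le
    -- a socle element of `R ⧸ I`
    haveI : IsNoetherian R (R ⧸ I) :=
      isNoetherian_of_surjective (Submodule.factor hfI)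
        (LinearMap.range_eq_top.2 (Submodule.factor_surjective hfI))
    haveI : IsArtinian R (R ⧸ I) :=
      isArtinian_of_surjective _ (Submodule.factor hfI) (Submodule.factor_surjective hfI)
    haveI : Nontrivial (R ⧸ I) := Ideal.Quotient.nontrivial_iff.2 htop
    obtain ⟨v, -, hv0, hvm⟩ := exists_socle_mem (R := R) (⊤ : Submodule R (R ⧸ I)) top_ne_bot
    obtain ⟨a, rfl⟩ := Submodule.Quotient.mk_surjective I v
    have ha : a ∉ I := fun h => hv0 ((Submodule.Quotient.mk_eq_zero I).2 h)
    have hma : ∀ r ∈ maximalIdeal R, r * a ∈ I := fun r hr => by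
      have := hvm r hr
      rwa [← Submodule.Quotient.mk_smul, Submodule.Quotient.mk_eq_zero] at this
    let I' : Ideal R := I ⊔ Ideal.span {a}
    have hII' : I ≤ I' := le_sup_left
    have hlt : J < Submodule.map q I' := by
      have h1 : J = Submodule.map q I := by
        rw [hIJ, Submodule.map_comap_eq_of_surjective (Submodule.mkQ_surjective _)]
      rw [h1]
      refine (Submodule.map_mono hII').lt_of_ne fun heq => ha ?_
      have h2 : I' ≤ I := by
        have h3 := congrArg (Submodule.comap q) heq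
        rw [Submodule.comap_map_eq, Submodule.comap_map_eq, Submodule.ker_mkQ, sup_eq_left.2 hfI,
          sup_eq_left.2 (hfI.trans hII')] at h3
        exact h3.ge
      exact h2 (Submodule.mem_sup_right (Ideal.mem_span_singleton_self a))
    have ih' := ih _ hlt I' (by
      rw [Submodule.comap_map_eq, Submodule.ker_mkQ, sup_eq_left.2 (hfI.trans hII')])
    -- multiplication by `a`
    let T := Submodule.torsionBySet R N (I : Set R)
    let T' := Submodule.torsionBySet R N (I' : Set R)
    let S := Submodule.span R {u₀}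
    have hmem : ∀ y : T, a • (y : N) ∈ S := fun y => by
      obtain ⟨b, hb⟩ := hsoc (a • (y : N)) fun r hr => by
        rw [smul_smul]
        exact (Submodule.mem_torsionBySet_iff _ _).1 y.2 ⟨_, hma r hr⟩
      exact Submodule.mem_span_singleton.2 ⟨b, hb.symm⟩
    let g : T →ₗ[R] S := LinearMap.codRestrict S ((LinearMap.lsmul R N a).comp T.subtype) hmem
    have hTT : T' ≤ T := Submodule.torsionBySet_le_torsionBySet_of_subset hII'
    let j : T' →ₗ[R] T := Submodule.inclusion hTT
    have hex : Function.Exact j g.rangeRestrict := by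
      intro y
      constructor
      · intro hy
        have hay : a • (y : N) = 0 := congrArg (fun z : LinearMap.range g => ((z : S) : N)) hy
        refine ⟨⟨y, (Submodule.mem_torsionBySet_iff _ _).2 fun r => ?_⟩, rfl⟩
        obtain ⟨i, hi, c, hc, he⟩ := Submodule.mem_sup.1 r.2
        obtain ⟨d, rfl⟩ := Ideal.mem_span_singleton'.1 hc
        rw [← he, add_smul, mul_smul, hay, smul_zero, add_zero]
        exact (Submodule.mem_torsionBySet_iff _ _).1 y.2 ⟨i, hi⟩
      · rintro ⟨z, rfl⟩
        refine Subtype.ext (Subtype.ext ?_)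
        exact (Submodule.mem_torsionBySet_iff _ _).1 z.2
          ⟨a, Submodule.mem_sup_right (Ideal.mem_span_singleton_self a)⟩
    have h1 := Module.length_eq_add_of_exact j g.rangeRestrict (Submodule.inclusion_injective hTT)
      g.surjective_rangeRestrict hex
    -- the socle has length at most one
    let p : (R ⧸ maximalIdeal R) →ₗ[R] S := Submodule.liftQ (maximalIdeal R)
      (LinearMap.toSpanSingleton R S ⟨u₀, Submodule.mem_span_singleton_self u₀⟩)
      fun r hr => Subtype.ext (hu₀ r hr)
    have hp : Function.Surjective p := fun ⟨z, hz⟩ => by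
      obtain ⟨c, hc⟩ := Submodule.mem_span_singleton.1 hz
      exact ⟨Submodule.Quotient.mk c, Subtype.ext hc⟩
    haveI : IsSimpleModule R (R ⧸ maximalIdeal R) :=
      isSimpleModule_iff_isCoatom.2 (Ideal.isMaximal_def.1 (maximalIdeal.isMaximal R))
    have h2 : Module.length R (LinearMap.range g) ≤ 1 := by
      refine (Module.length_le_of_injective (LinearMap.range g).subtype Subtype.val_injective).trans ?_
      refine (Module.length_le_of_surjective p hp).trans ?_
      rw [Module.length_eq_one]
    -- the ring side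
    let fac : (R ⧸ I) →ₗ[R] R ⧸ I' := Submodule.factor hII'
    have hfac := Submodule.factor_surjective hII'
    haveI : Nontrivial (LinearMap.ker fac) := by
      refine ⟨⟨⟨Submodule.Quotient.mk a, ?_⟩, 0, fun h => hv0 (congrArg Subtype.val h)⟩⟩
      rw [LinearMap.mem_ker]
      exact (Submodule.Quotient.mk_eq_zero I').2 (Submodule.mem_sup_right (Ideal.mem_span_singleton_self a))
    have h3 := Module.length_eq_add_of_exact (LinearMap.ker fac).subtype fac Subtype.val_injective hfac
      (LinearMap.exact_subtype_ker_map fac)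
    have h4 : 1 ≤ Module.length R (LinearMap.ker fac) := Order.one_le_iff_ne_zero.2 Module.length_pos.ne'
    rw [h1, h3]
    calc Module.length R T' + Module.length R (LinearMap.range g)
        ≤ Module.length R (R ⧸ I') + 1 := add_le_add ih' h2
      _ ≤ Module.length R (LinearMap.ker fac) + Module.length R (R ⧸ I') := by
          rw [add_comm]; exact add_le_add h4 le_rfl

end Socle

/-- A finite module over a one-dimensional Gorenstein ring, on which only scalars act and whose socle modulo a
regular element is cyclic, is free of rank one. -/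
theorem exists_bijective {R : Type u} [CommRing R] [LocCoh.IsGorensteinLocalRing R] [Ring.KrullDimLE 1 R]
    {M : Type u} [AddCommGroup M] [Module R M] [Module.Finite R M] {f : R} (hf : f ∈ maximalIdeal R)
    (hfR : f ∈ nonZeroDivisors R) (hfM : IsSMulRegular M f)
    (hfaith : ∀ c : R, (∀ m : M, c • m = 0) → c = 0)
    (hend : ∀ ψ : M →ₗ[R] M, ∃ c : R, ∀ m, ψ m = c • m)
    (φ₀ : ↥(maximalIdeal R) →ₗ[R] M)
    (hgen : ∀ φ : ↥(maximalIdeal R) →ₗ[R] M, ∃ (a : R) (m₁ : M), ∀ r, φ r = a • φ₀ r + (r : R) • m₁) :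
    ∃ m₀ : M, Function.Bijective fun r : R => r • m₀ := by
  let fM : Submodule R M := LinearMap.range (LinearMap.lsmul R M f)
  have hfMmem : ∀ y, y ∈ fM ↔ ∃ g, f • g = y := fun y => Iff.rfl
  haveI hfin := isFiniteLength_iff_isNoetherian_isArtinian.1 (isFiniteLength_quotient_span_singleton R hfR)
  haveI := hfin.1
  haveI := hfin.2
  let N := M ⧸ fM
  -- the socle of `M ⧸ f M`
  let u₀ : N := fM.mkQ (φ₀ ⟨f, hf⟩)
  have hu₀ : ∀ r ∈ maximalIdeal R, r • u₀ = 0 := fun r hr => by
    rw [← map_smul, Submodule.mkQ_apply, Submodule.Quotient.mk_eq_zero]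
    refine (hfMmem _).2 ⟨φ₀ ⟨r, hr⟩, ?_⟩
    rw [← map_smul, ← map_smul]
    exact congrArg φ₀ (Subtype.ext (mul_comm f r))
  have hsoc : ∀ v : N, (∀ r ∈ maximalIdeal R, r • v = 0) → ∃ a : R, v = a • u₀ := by
    intro v hv
    obtain ⟨y, rfl⟩ := fM.mkQ_surjective v
    have hy : ∀ r : maximalIdeal R, ∃ g, f • g = (r : R) • y := fun r => (hfMmem _).1 (by
      rw [← Submodule.Quotient.mk_eq_zero fM, Submodule.Quotient.mk_smul]
      exact hv r r.2)
    choose g hg using hy
    let φ : ↥(maximalIdeal R) →ₗ[R] M :=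
      { toFun := g
        map_add' := fun r s => hfM (show f • g (r + s) = f • (g r + g s) by
          rw [hg, smul_add, hg, hg]; exact add_smul (r : R) (s : R) y)
        map_smul' := fun c r => hfM (show f • g (c • r) = f • c • g r by
          rw [hg, smul_comm f c, hg]; exact mul_smul c (r : R) y) }
    have hφf : φ ⟨f, hf⟩ = y := hfM (hg ⟨f, hf⟩)
    obtain ⟨a, m₁, hφ⟩ := hgen φ
    refine ⟨a, ?_⟩
    rw [← map_smul, ← hφf, hφ, Submodule.mkQ_apply, Submodule.mkQ_apply, Submodule.Quotient.eq, add_sub_cancel_left]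
    exact (hfMmem _).2 ⟨m₁, rfl⟩
  -- an element with annihilator `(f)` modulo `f M`
  have hne1 : (Ideal.span {f} : Ideal R) ≠ ⊤ :=
    fun h => (maximalIdeal.isMaximal R).ne_top (top_unique (h ▸ (Ideal.span_singleton_le_iff_mem _).2 hf))
  haveI : Nontrivial (R ⧸ Ideal.span {f}) := Ideal.Quotient.nontrivial_iff.2 hne1
  obtain ⟨v, -, hv0, hvm⟩ := exists_socle_mem (R := R) (⊤ : Submodule R (R ⧸ Ideal.span {f})) top_ne_bot
  obtain ⟨s, rfl⟩ := Submodule.Quotient.mk_surjective _ v
  have hs : ¬ f ∣ s := fun h => hv0 ((Submodule.Quotient.mk_eq_zero _).2 (Ideal.mem_span_singleton.2 h))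
  have hms : ∀ r ∈ maximalIdeal R, f ∣ r * s := fun r hr => by
    have := hvm r hr
    rwa [← Submodule.Quotient.mk_smul, Submodule.Quotient.mk_eq_zero, Ideal.mem_span_singleton] at this
  obtain ⟨m₀, hm₀⟩ : ∃ m₀ : M, s • m₀ ∉ fM := by
    by_contra h
    push Not at h
    choose g hg using fun m => (hfMmem _).1 (h m)
    let ψ : M →ₗ[R] M :=
      { toFun := g
        map_add' := fun a b => hfM (show f • g (a + b) = f • (g a + g b) by
          rw [hg, smul_add, smul_add, hg, hg])
        map_smul' := fun c a => hfM (show f • g (c • a) = f • c • g a by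
          rw [hg, smul_comm f c, hg, smul_comm]) }
    obtain ⟨c, hc⟩ := hend ψ
    refine hs ⟨c, ?_⟩
    rw [← sub_eq_zero]
    exact hfaith _ fun m => by
      rw [sub_smul, mul_smul, ← hc m, show f • ψ m = s • m from hg m, sub_self]
  have hann : ∀ z : R, z • fM.mkQ m₀ = 0 → f ∣ z := by
    intro z hz
    by_contra hfz
    let A : Submodule R (R ⧸ Ideal.span {f}) :=
        Submodule.map (Ideal.span {f}).mkQ (LinearMap.ker (LinearMap.toSpanSingleton R N (fM.mkQ m₀)))
    have hA : A ≠ ⊥ := fun h => hfz (Ideal.mem_span_singleton.1 ((Submodule.Quotient.mk_eq_zero _).1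
      ((Submodule.mem_bot R).1 (h ▸ Submodule.mem_map_of_mem (show z ∈ LinearMap.ker _ from hz)))))
    obtain ⟨w, ⟨z', hz', rfl⟩, hw0, hwm⟩ := exists_socle_mem (R := R) A hA
    have hmz : ∀ r ∈ maximalIdeal R, f ∣ r * z' := fun r hr => by
      have := hwm r hr
      rwa [Submodule.mkQ_apply, ← Submodule.Quotient.mk_smul, Submodule.Quotient.mk_eq_zero,
        Ideal.mem_span_singleton] at this
    obtain ⟨a, b, hab, hd⟩ := Groth.L21.GorensteinSocle.socle_dependent hf hfR hms hmz
    have key : a • s • fM.mkQ m₀ = 0 := by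
      obtain ⟨c, hc⟩ := hd
      have h1 : (a * s + b * z') • fM.mkQ m₀ = 0 := by
        rw [hc, mul_comm, mul_smul]
        have : f • fM.mkQ m₀ = 0 := by
          rw [← map_smul, Submodule.mkQ_apply, Submodule.Quotient.mk_eq_zero]
          exact (hfMmem _).2 ⟨m₀, rfl⟩
        rw [this, smul_zero]
      have h2 : z' • fM.mkQ m₀ = 0 := hz'
      rwa [add_smul, mul_smul, mul_smul, h2, smul_zero, add_zero] at h1
    rcases hab with ha | hb
    · refine hm₀ ((Submodule.Quotient.mk_eq_zero fM).1 ?_)
      rw [← Submodule.mkQ_apply, map_smul]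
      exact ha.smul_eq_zero.1 key
    · by_cases hau : IsUnit a
      · refine hm₀ ((Submodule.Quotient.mk_eq_zero fM).1 ?_)
        rw [← Submodule.mkQ_apply, map_smul]
        exact hau.smul_eq_zero.1 key
      · have h3 : f ∣ b * z' := (dvd_add_right (hms a hau)).1 hd
        exact hw0 ((Submodule.Quotient.mk_eq_zero _).2
          (Ideal.mem_span_singleton.2 ((hb.dvd_mul_left).1 h3)))
  -- the element generates modulo `f M`
  let ι : (R ⧸ Ideal.span {f}) →ₗ[R] N := Submodule.liftQ _ (LinearMap.toSpanSingleton R N (fM.mkQ m₀)) (by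
    rw [Ideal.span_singleton_le_iff_mem]
    show f • fM.mkQ m₀ = 0
    rw [← map_smul, Submodule.mkQ_apply, Submodule.Quotient.mk_eq_zero]
    exact (hfMmem _).2 ⟨m₀, rfl⟩)
  have hι : Function.Injective ι := by
    rw [injective_iff_map_eq_zero]
    intro w hw
    obtain ⟨z, rfl⟩ := Submodule.Quotient.mk_surjective _ w
    exact (Submodule.Quotient.mk_eq_zero _).2 (Ideal.mem_span_singleton.2 (hann z hw))
  have hkill : ∀ v : N, f • v = 0 := fun v => by
    obtain ⟨y, rfl⟩ := fM.mkQ_surjective v
    rw [← map_smul, Submodule.mkQ_apply, Submodule.Quotient.mk_eq_zero]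
    exact (hfMmem _).2 ⟨y, rfl⟩
  have hlen : Module.length R N ≤ Module.length R (R ⧸ Ideal.span {f}) := by
    have h1 := length_torsionBySet_le u₀ hu₀ hsoc (Ideal.span {f}) (Ideal.mem_span_singleton_self f)
    have h2 : Submodule.torsionBySet R N ((Ideal.span {f} : Ideal R) : Set R) = ⊤ := eq_top_iff.2 fun v _ => by
      rw [Submodule.mem_torsionBySet_iff]
      rintro ⟨r, hr⟩
      obtain ⟨c, rfl⟩ := Ideal.mem_span_singleton'.1 hr
      exact (mul_smul c f v).trans (by rw [hkill, smul_zero])
    rwa [h2, Module.length_top] at h1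
  have hfl : Module.length R (R ⧸ Ideal.span {f}) ≠ ⊤ := Module.length_ne_top
  have hιs : Function.Surjective ι := by
    rw [← LinearMap.range_eq_top]
    by_contra h
    haveI : Nontrivial (N ⧸ LinearMap.range ι) := Submodule.Quotient.nontrivial_iff.2 h
    have h1 := Module.length_eq_add_of_exact (LinearMap.range ι).subtype (LinearMap.range ι).mkQ
      Subtype.val_injective (Submodule.mkQ_surjective _) (LinearMap.exact_subtype_mkQ _)
    rw [← (LinearEquiv.ofInjective ι hι).length_eq] at h1
    have h2 : 1 ≤ Module.length R (N ⧸ LinearMap.range ι) := Order.one_le_iff_ne_zero.2 Module.length_pos.ne'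
    have h3 : Module.length R (R ⧸ Ideal.span {f}) + 1 ≤ Module.length R N := h1 ▸ add_le_add le_rfl h2
    exact absurd ((h3.trans hlen)) (by
      rw [not_le]
      exact (ENat.lt_add_one_iff hfl).2 le_rfl)
  have hspan : Submodule.span R {m₀} = ⊤ := by
    refine eq_top_iff.2 ?_
    refine Submodule.le_of_le_smul_of_le_jacobson_bot Module.Finite.fg_top
      (IsLocalRing.maximalIdeal_le_jacobson ⊥) fun y _ => ?_
    obtain ⟨w, hw⟩ := hιs (fM.mkQ y)
    obtain ⟨r, rfl⟩ := Submodule.Quotient.mk_surjective _ w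
    have h1 : fM.mkQ (r • m₀) = fM.mkQ y := (map_smul _ _ _).trans hw
    obtain ⟨g, hg⟩ := (hfMmem _).1 ((Submodule.Quotient.eq fM).1 h1.symm)
    refine Submodule.mem_sup.2 ⟨r • m₀, Submodule.smul_mem _ _ (Submodule.mem_span_singleton_self _),
      f • g, Submodule.smul_mem_smul hf Submodule.mem_top, ?_⟩
    rw [hg]; abel
  refine ⟨m₀, ⟨fun a b hab => sub_eq_zero.1 (hfaith _ fun m => ?_), fun m => ?_⟩⟩
  · obtain ⟨c, rfl⟩ := Submodule.mem_span_singleton.1 (hspan ▸ Submodule.mem_top : m ∈ Submodule.span R {m₀})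
    rw [smul_comm, sub_smul, sub_eq_zero.2 hab, smul_zero]
  · exact Submodule.mem_span_singleton.1 (hspan ▸ Submodule.mem_top : m ∈ Submodule.span R {m₀})

end Groth.L21.CurveGor
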