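import Groth.Agent.L21.CurveGor.Main
import Groth.Agent.L21.Bundle.Lines
import Groth.Agent.L01.Regular

/-!
The dualizing module is free of rank one near a regular point.
-/

set_option autoImplicit false
set_option backward.isDefEq.respectTransparency false
set_option backward.isDefEq.respectTransparency.types false
set_option linter.style.haveILetI false
universe u

open CategoryTheory CategoryTheory.Limits AlgebraicGeometry Opposite TopologicalSpace
open IsLocalRing (maximalIdeal)

noncomputable section

namespace Groth.L21.CurveGor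

open Groth.L21.RR (st)

variable {X : Scheme.{u}} {k : Type u} [Field k] [X.Over (Spec (CommRingCat.of k))]
  [IsProper (X ↘ Spec (CommRingCat.of k))] {ω : X.Modules} {t : Coh.HH X ω 1 →ₗ[k] k}
  [AlgebraicGeometry.IsReduced X]

/-- A module over a domain with scalar endomorphisms is of rank at most one. -/
theorem subsingleton_index {R M : Type u} [CommRing R] [Nontrivial R] [AddCommGroup M] [Module R M] {ι : Type u}
    (b : Module.Basis ι R M) (hend : ∀ ψ : M →ₗ[R] M, ∃ c : R, ∀ m, ψ m = c • m) : Subsingleton ι := by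
  refine ⟨fun i j => ?_⟩
  by_contra hij
  obtain ⟨c, hc⟩ := hend ((b.coord i).smulRight (b i))
  have h1 := congrArg (b.coord i) (hc (b i))
  have h2 := congrArg (b.coord j) (hc (b j))
  simp [Finsupp.single_eq_same, hij] at h1 h2
  exact one_ne_zero (h1.trans h2.symm)

/-- Near a regular closed point the dualizing module has a frame. -/
theorem Setup.exists_frame_regular (S : Setup k X ω t) {p : X} (hp : IsClosed ({p} : Set X))
    (hreg : IsRegularLocalRing (X.presheaf.stalk p)) :
    ∃ (W : X.Opens) (ε : Γ(ω, W)), p ∈ W ∧ Groth.L18.Frame.IsFrame ω W ε := by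
  classical
  haveI := Groth.L21.RR.isNoetherian_of_proper (X := X) k
  haveI := hreg
  let R := X.presheaf.stalk p
  haveI : IsDomain R := Groth.L01.isDomain_of_regular R
  have hωc := Groth.L21.CurveDual.isCoh S.hd S.hω
  haveI : Coh.IsQCoh ω := S.hω.1
  haveI : Module.Finite R (ω.presheaf.stalk p) := Groth.L15.Ref.finite_stalk hωc p
  have hpr := Groth.L21.SmoothDescent.isPrincipal_of_dim_le_one (B := R)
    ((Groth.L21.SmoothDescent.ringKrullDim_stalk_le p).trans S.hd)
  haveI : IsPrincipalIdealRing R :=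
    (tfae_of_isNoetherianRing_of_isLocalRing_of_isDomain R).out 4 0 |>.mp hpr
  haveI : Module.IsTorsionFree R (ω.presheaf.stalk p) := by
    refine Module.IsTorsionFree.of_smul_eq_zero fun r m hrm => ?_
    by_contra hh
    push Not at hh
    refine S.assω p hp ((isAssociatedPrime_iff_exists_injective_linearMap _ _).2
      ⟨(IsLocalRing.maximalIdeal.isMaximal _).isPrime, ?_⟩)
    obtain ⟨ϖ, hϖ⟩ := hpr.principal
    have hϖ0 : ϖ ≠ 0 := fun h0 => S.hnf p hp (IsLocalRing.isField_iff_maximalIdeal_eq.2 (by
      rw [hϖ, h0]; exact Submodule.span_singleton_eq_bot.2 rfl))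
    haveI : IsDiscreteValuationRing R :=
      { not_a_field' := fun h0 => S.hnf p hp (IsLocalRing.isField_iff_maximalIdeal_eq.2 h0) }
    have hirr : Irreducible ϖ := by
      rw [IsDiscreteValuationRing.irreducible_iff_uniformizer, hϖ]
    obtain ⟨n, hn⟩ := IsDiscreteValuationRing.associated_pow_irreducible hh.1 hirr
    have hex : ∃ v : ω.presheaf.stalk p, v ≠ 0 ∧ ϖ • v = 0 := by
      obtain ⟨u, hu⟩ := hn.symm
      have h1 : ϖ ^ n • m = 0 := by
        have h2 : (u : R) • (ϖ ^ n • m) = 0 := by rw [smul_smul, mul_comm, hu]; exact hrm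
        exact u.isUnit.smul_eq_zero.1 h2
      clear hrm hu hn
      induction n with
      | zero => exact absurd (by simpa using h1) hh.2
      | succ n ih =>
        by_cases h2 : ϖ ^ n • m = 0
        · exact ih h2
        · exact ⟨_, h2, by rw [smul_smul, ← pow_succ', h1]⟩
    obtain ⟨v, hv, hϖv⟩ := hex
    refine ⟨Submodule.liftQ _ (LinearMap.toSpanSingleton R _ v) fun a ha => ?_, ?_⟩
    · rw [hϖ] at ha
      obtain ⟨c, rfl⟩ := Submodule.mem_span_singleton.1 ha
      show (c • ϖ) • v = 0
      rw [smul_assoc, hϖv, smul_zero]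
    · rw [injective_iff_map_eq_zero]
      intro c hc
      obtain ⟨c, rfl⟩ := Submodule.Quotient.mk_surjective _ c
      rw [Submodule.Quotient.mk_eq_zero]
      intro hu
      exact hv (hu.smul_eq_zero.1 hc)
  haveI : Module.Free R (ω.presheaf.stalk p) := Module.free_of_finite_type_torsion_free'
  obtain ⟨hfaith, hend⟩ := S.endo p
  let b := Module.Free.chooseBasis R (ω.presheaf.stalk p)
  haveI := subsingleton_index b hend
  haveI : Nonempty (Module.Free.ChooseBasisIndex R (ω.presheaf.stalk p)) := by
    by_contra h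
    rw [not_nonempty_iff] at h
    exact one_ne_zero (hfaith (1 : R) fun m => by rw [one_smul]; exact b.repr.injective (Subsingleton.elim _ _))
  haveI : Unique (Module.Free.ChooseBasisIndex R (ω.presheaf.stalk p)) := uniqueOfSubsingleton (Classical.arbitrary _)
  have θ : ω.presheaf.stalk p ≃ₗ[R] R := b.equivFun.trans (LinearEquiv.funUnique _ R R)
  haveI : Module.Flat R (ω.presheaf.stalk p) := Module.Flat.of_linearEquiv θ
  obtain ⟨U, n, hpU, ⟨e⟩⟩ := Groth.L20.FibreFree.exists_free_nhd ω
    (Groth.L15.Ref.isFP_of_isCoh hωc) p inferInstance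
  have hU : U.ι ''ᵁ ⊤ = U := (Scheme.Hom.image_top_eq_opensRange U.ι).trans U.opensRange_ι
  obtain ⟨s, hs⟩ := Groth.L17.FinLocBases.exists_isBasis ω e
  have hb := Groth.L17.PullBasis.bijective_stalk ω s hs p (hU.symm ▸ hpU)
  let θn := LinearEquiv.ofBijective (Fintype.linearCombination R
    fun j => Groth.L00.StalkTensor.germ (Groth.L00.Tensor.pre ω) p (hU.symm ▸ hpU) (s j)) hb
  have hn : n = 1 := by simpa using (θn.trans θ).finrank_eq
  subst hn
  refine ⟨U.ι ''ᵁ ⊤, s 0, hU.symm ▸ hpU, fun V h => ?_⟩
  have h1 := hs V (homOfLE h)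
  have h2 : (fun r : Fin 1 → Γ(X, V) => ∑ i, r i • Groth.L18.Frame.rs ω h (s i)) =
      (fun a : Γ(X, V) => a • Groth.L18.Frame.rs ω h (s 0)) ∘ (Equiv.funUnique (Fin 1) Γ(X, V)) := by
    funext r
    simp
  exact (Function.Bijective.of_comp_iff _ (Equiv.bijective _)).1 (h2 ▸ h1)

end Groth.L21.CurveGor
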